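import Groth.Prelude.Def_EtDual
import Groth.Agent.EtPtsLib.GermEq
import Groth.Agent.EtPtsLib.OpenShriek
import Groth.Agent.EtJCont.Basic
import Groth.Agent.S13507
import Mathlib.CategoryTheory.Sites.CoverLifting
import Mathlib.RingTheory.Etale.StandardEtale
import Mathlib.RingTheory.Polynomial.Cyclotomic.Roots

/-!
Tate twists are étale-locally constant.
-/

set_option autoImplicit false
set_option backward.isDefEq.respectTransparency false
set_option backward.isDefEq.respectTransparency.types false

universe u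

open CategoryTheory CategoryTheory.Limits AlgebraicGeometry Opposite TensorProduct
open Groth.Agent.EtPtsLib

noncomputable section

namespace Groth.Agent.TateShLib

variable {X X' : Scheme.{u}} (g : X' ⟶ X) [AlgebraicGeometry.Etale g]

instance jCont' : EtShriek.JCont g := Groth.Agent.EtJCont.jCont g

/-- `compEtale` is cocontinuous. -/
instance cocontinuous_compEtale :
    (EtShriek.compEtale g).IsCocontinuous X'.smallEtaleTopology X.smallEtaleTopology where
  cover_lift {V} S hS := by
    have eU : X'.smallEtaleTopology =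
        (X'.smallPretopology (P := EtCoh.etaleMP) (Q := EtCoh.etaleMP)).toGrothendieck :=
      Scheme.smallGrothendieckTopology_eq_toGrothendieck_smallPretopology X' le_rfl
    have eX : X.smallEtaleTopology =
        (X.smallPretopology (P := EtCoh.etaleMP) (Q := EtCoh.etaleMP)).toGrothendieck :=
      Scheme.smallGrothendieckTopology_eq_toGrothendieck_smallPretopology X le_rfl
    rw [eX] at hS
    rw [eU]
    refine (Scheme.mem_toGrothendieck_smallPretopology V _).2 ?_
    intro x
    obtain ⟨W, f, w, hf, hP, hw⟩ := (Scheme.mem_toGrothendieck_smallPretopology _ S).1 hS x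
    haveI : AlgebraicGeometry.Etale V.hom := V.prop
    haveI : AlgebraicGeometry.Etale f.left := hP
    let W' : X'.Etale := MorphismProperty.Over.mk ⊤ (f.left ≫ V.hom)
      (inferInstanceAs (AlgebraicGeometry.Etale (f.left ≫ V.hom)))
    let f' : W' ⟶ V := MorphismProperty.Over.homMk f.left rfl
    refine ⟨W', f', w, ?_, hP, hw⟩
    let e : (EtShriek.compEtale g).obj W' ⟶ W := MorphismProperty.Over.homMk (𝟙 _) (by
      change 𝟙 _ ≫ W.hom = (f.left ≫ V.hom) ≫ g
      rw [Category.id_comp, Category.assoc]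
      exact (MorphismProperty.Over.w f).symm)
    change S ((EtShriek.compEtale g).map f')
    rw [show (EtShriek.compEtale g).map f' = e ≫ f from
      MorphismProperty.Over.Hom.ext (Category.id_comp _).symm]
    exact S.downward_closed hf e

/-- Restriction commutes with sheafification. -/
def restrSheafify :
    (Functor.whiskeringLeft _ _ AddCommGrpCat.{u + 1}).obj (EtShriek.compEtale g).op ⋙
        presheafToSheaf X'.smallEtaleTopology AddCommGrpCat.{u + 1} ≅
      presheafToSheaf X.smallEtaleTopology AddCommGrpCat.{u + 1} ⋙ EtShriek.restrAlong g :=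
  (EtShriek.compEtale g).pushforwardContinuousSheafificationCompatibility _ _ _

/-- Constant sheaves restrict to constant sheaves. -/
def restrConst (M : Type) [AddCommGroup M] :
    (EtShriek.restrAlong g).obj (EtCoh.const X M) ≅ EtCoh.const X' M :=
  ((restrSheafify g).app ((Functor.const _).obj _)).symm ≪≫
    (presheafToSheaf _ _).mapIso (NatIso.ofComponents (fun _ => Iso.refl _) (fun _ => rfl))

/-- The multiplicative group restricts to the multiplicative group. -/
def restrGm : (EtShriek.restrAlong g).obj (EtCoh.Gm X) ≅ EtCoh.Gm X' :=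
  (fullyFaithfulSheafToPresheaf _ _).preimageIso
    (NatIso.ofComponents (fun _ => Iso.refl _) (fun _ => rfl))

/-- Roots of unity restrict to roots of unity. -/
def restrMu (n : ℕ) : (EtShriek.restrAlong g).obj (EtCoh.mu X n) ≅ EtCoh.mu X' n :=
  haveI : PreservesLimits (EtShriek.restrAlong g) := (EtShriek.extZeroAdj g).rightAdjoint_preservesLimits
  haveI : PreservesBinaryBiproducts (EtShriek.restrAlong g) :=
    preservesBinaryBiproducts_of_preservesBinaryProducts _
  haveI : (EtShriek.restrAlong g).Additive := Functor.additive_of_preservesBinaryBiproducts _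
  PreservesKernel.iso (EtShriek.restrAlong g) (EtCoh.powMap X n) ≪≫
    kernel.mapIso _ _ (restrGm g) (restrGm g) (by
      rw [EtCoh.powMap, EtCoh.powMap, Functor.map_nsmul, CategoryTheory.Functor.map_id]
      simp [Preadditive.comp_nsmul, Preadditive.nsmul_comp])

/-- Tensor products of isomorphic sheaves. -/
def tensorPreIso {F F' G G' : EtCoh.Ab X} (a : F ≅ F') (b : G ≅ G') :
    EtDual.tensorPre F G ≅ EtDual.tensorPre F' G' :=
  NatIso.ofComponents (fun U => (TensorProduct.congr
      (AddEquiv.toIntLinearEquiv ((sheafSections _ _).obj U |>.mapIso a).addCommGroupIsoToAddEquiv)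
      (AddEquiv.toIntLinearEquiv ((sheafSections _ _).obj U |>.mapIso b).addCommGroupIsoToAddEquiv)).toAddEquiv.toAddCommGrpIso)
    (fun {U V} i => by
      apply AddCommGrpCat.ext
      intro t
      induction t using TensorProduct.induction_on with
      | zero => simp only [map_zero]
      | add x y hx hy => simp only [map_add, hx, hy]
      | tmul x y =>
        exact congrArg₂ (· ⊗ₜ[ℤ] ·) (ConcreteCategory.congr_hom (a.hom.hom.naturality i) x)
          (ConcreteCategory.congr_hom (b.hom.hom.naturality i) y))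

/-- The functoriality of `tensorAb`. -/
def tensorIso {F F' G G' : EtCoh.Ab X} (a : F ≅ F') (b : G ≅ G') :
    EtDual.tensorAb F G ≅ EtDual.tensorAb F' G' :=
  (presheafToSheaf _ _).mapIso (tensorPreIso a b)

/-- Restriction commutes with tensor products. -/
def restrTensor (F G : EtCoh.Ab X) :
    (EtShriek.restrAlong g).obj (EtDual.tensorAb F G) ≅
      EtDual.tensorAb ((EtShriek.restrAlong g).obj F) ((EtShriek.restrAlong g).obj G) :=
  ((restrSheafify g).app (EtDual.tensorPre F G)).symm ≪≫
    (presheafToSheaf _ _).mapIso (NatIso.ofComponents (fun _ => Iso.refl _) (fun _ => rfl))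

/-- `s ↦ 1 ⊗ s`. -/
def oneTensorPre (n : ℕ) (F : EtCoh.Ab X) :
    F.obj ⟶ EtDual.tensorPre (EtCoh.const X (ZMod n)) F where
  app U := AddCommGrpCat.ofHom (AddMonoidHom.mk'
    (fun s => (cst (AddCommGrpCat.of (ULift.{u + 1} (ZMod n))) U.unop ⟨1⟩) ⊗ₜ[ℤ] s)
    (fun s t => TensorProduct.tmul_add _ s t))
  naturality U V i := by
    apply AddCommGrpCat.ext
    intro s
    exact congrArg (fun c => c ⊗ₜ[ℤ] (F.obj.map i).hom s)
      (ConcreteCategory.congr_hom (cst_map (AddCommGrpCat.of (ULift.{u + 1} (ZMod n))) i.unop) ⟨1⟩).symm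

theorem isIso_oneTensor (n : ℕ) (F : EtCoh.Ab X) (hF : n • 𝟙 F = 0) :
    IsIso ((presheafToSheaf X.smallEtaleTopology AddCommGrpCat.{u + 1}).map (oneTensorPre n F)) := by
  let M : AddCommGrpCat.{u + 1} := AddCommGrpCat.of (ULift.{u + 1} (ZMod n))
  have hn0 : ∀ (U : X.Etale) (s : EtCoh.sect F U), n • s = 0 := fun U s => by
    have h1 := congrArg (fun q => ((sheafToPresheaf _ _).map q).app (op U)) hF
    simp only [Functor.map_nsmul, Functor.map_zero, NatTrans.app_nsmul] at h1
    exact ConcreteCategory.congr_hom h1 s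
  haveI : Presheaf.IsLocallyInjective X.smallEtaleTopology (oneTensorPre n F) := by
    refine SitePts.isLocallyInjective (detects X) _ fun x => ?_
    let Φ := Scheme.pointSmallEtale (geomPt x)
    refine (injective_iff_map_eq_zero _).2 fun z hz => ?_
    obtain ⟨U, l, s, rfl⟩ := Φ.toPresheafFiber_jointly_surjective z
    rw [Φ.toPresheafFiber_naturality_apply,
      ← map_zero (Φ.toPresheafFiber U l (EtDual.tensorPre (EtCoh.const X (ZMod n)) F)).hom] at hz
    obtain ⟨V, i, y, hy, hi⟩ := (Φ.toPresheafFiber_eq_iff' _ _ _ _).1 hz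
    rw [map_zero] at hi
    rw [← map_zero (Φ.toPresheafFiber U l F.obj).hom]
    refine (Φ.toPresheafFiber_eq_iff' _ _ _ _).2 ⟨V, i, y, hy, ?_⟩
    rw [map_zero]
    let e := AddEquiv.ofBijective (AddMonoidHom.mk'
      (fun c : M => germ (geomPt x) ((constantSheaf X.smallEtaleTopology AddCommGrpCat.{u + 1}).obj M) y (cst M V c))
      (fun a b => by simp)) (germ_cst_bijective (geomPt x) M y)
    let ev : EtCoh.sect (EtCoh.const X (ZMod n)) V →+ ZMod n :=
      (AddEquiv.ulift.toAddMonoidHom.comp e.symm.toAddMonoidHom).comp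
        (Φ.toPresheafFiber V y (EtCoh.const X (ZMod n)).obj).hom
    have hev : ev (cst M V ⟨1⟩) = 1 :=
      congrArg ULift.down (e.symm_apply_apply ⟨1⟩)
    let act : EtCoh.sect F V → (ZMod n →+ EtCoh.sect F V) := fun t =>
      ZMod.lift n ⟨zmultiplesHom _ t, by simpa using hn0 V t⟩
    have hact : ∀ t (k : ℤ), act t k = k • t := fun t k => ZMod.lift_coe n _ _
    let φ : EtCoh.sect (EtCoh.const X (ZMod n)) V ⊗[ℤ] EtCoh.sect F V →+ EtCoh.sect F V :=
      TensorProduct.liftAddHom
        { toFun := fun c => AddMonoidHom.mk' (fun t => act t (ev c)) (fun t t' => by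
            obtain ⟨k, hk⟩ := ZMod.intCast_surjective (ev c)
            rw [← hk, hact, hact, hact, smul_add])
          map_zero' := by ext t; exact (congrArg (act t) (map_zero ev)).trans (map_zero _)
          map_add' := fun c c' => by
            ext t; exact (congrArg (act t) (map_add ev c c')).trans (map_add _ _ _) }
        (fun k c t => by
          obtain ⟨m, hm⟩ := ZMod.intCast_surjective (ev c)
          show act t (ev (k • c)) = act (k • t) (ev c)
          rw [map_zsmul, ← hm, zsmul_eq_mul, ← Int.cast_mul, hact, hact, smul_smul, mul_comm])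
    have hi' : (cst M V ⟨1⟩) ⊗ₜ[ℤ] (F.obj.map i.op).hom s = 0 := by
      rw [← hi]
      exact congrArg (fun c => c ⊗ₜ[ℤ] (F.obj.map i.op).hom s)
        (ConcreteCategory.congr_hom (cst_map M i) ⟨1⟩).symm
    have h3 := congrArg φ hi'
    rw [map_zero] at h3
    rw [← h3]
    show _ = act _ (ev (cst M V ⟨1⟩))
    rw [hev, ← Int.cast_one, hact, one_smul]
  haveI : Presheaf.IsLocallySurjective X.smallEtaleTopology (oneTensorPre n F) := by
    refine SitePts.isLocallySurjective (detects X) _ fun x => ?_
    let Φ := Scheme.pointSmallEtale (geomPt x)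
    intro z
    obtain ⟨U, l, t, rfl⟩ := Φ.toPresheafFiber_jointly_surjective z
    induction t using TensorProduct.induction_on with
    | zero => exact ⟨0, (map_zero _).trans (map_zero _).symm⟩
    | add a b ha hb =>
      obtain ⟨a', ha'⟩ := ha
      obtain ⟨b', hb'⟩ := hb
      exact ⟨a' + b', by rw [map_add, ha', hb']; exact (map_add _ a b).symm⟩
    | tmul c s =>
      obtain ⟨⟨k⟩, hk⟩ := (germ_cst_bijective (geomPt x) M l).2
        (Φ.toPresheafFiber U l (EtCoh.const X (ZMod n)).obj c)
      obtain ⟨m, rfl⟩ := ZMod.intCast_surjective k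
      obtain ⟨V, i, y, hy, hi⟩ := (Φ.toPresheafFiber_eq_iff' _ _ _ _).1 hk
      refine ⟨Φ.toPresheafFiber V y F.obj (m • (F.obj.map i.op).hom s), ?_⟩
      rw [Φ.toPresheafFiber_naturality_apply, ← hy,
        ← Φ.toPresheafFiber_w_apply i y (EtDual.tensorPre (EtCoh.const X (ZMod n)) F) (c ⊗ₜ[ℤ] s)]
      refine congrArg _ ?_
      show (cst M V ⟨1⟩) ⊗ₜ[ℤ] (m • (F.obj.map i.op).hom s) =
        ((EtCoh.const X (ZMod n)).obj.map i.op).hom c ⊗ₜ[ℤ] (F.obj.map i.op).hom s
      rw [← hi, TensorProduct.tmul_smul, TensorProduct.smul_tmul']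
      congr 1
      refine Eq.trans ?_ (ConcreteCategory.congr_hom (cst_map M i) ⟨(m : ZMod n)⟩).symm
      rw [← map_zsmul]
      refine congrArg _ (ULift.ext _ _ ?_)
      show m • (1 : ZMod n) = _
      rw [zsmul_one]
  exact (GrothendieckTopology.W_iff (J := X.smallEtaleTopology) (oneTensorPre n F)).1
    ((X.smallEtaleTopology).W_of_isLocallyBijective (oneTensorPre n F))

theorem nsmul_id_const (n : ℕ) : n • 𝟙 (EtCoh.const X (ZMod n)) = 0 := by
  let M : AddCommGrpCat.{u + 1} := AddCommGrpCat.of (ULift.{u + 1} (ZMod n))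
  have h : n • 𝟙 M = 0 := by
    apply AddCommGrpCat.ext
    intro c
    show n • c = 0
    apply ULift.ext
    show n • c.down = 0
    rw [nsmul_eq_mul, ZMod.natCast_self, zero_mul]
  haveI : (constantSheaf X.smallEtaleTopology AddCommGrpCat.{u + 1}).Additive :=
    inferInstanceAs ((Functor.const _ ⋙ presheafToSheaf _ _).Additive)
  have h1 := congrArg (constantSheaf X.smallEtaleTopology AddCommGrpCat.{u + 1}).map h
  rwa [Functor.map_nsmul, Functor.map_zero, CategoryTheory.Functor.map_id] at h1

/-- `ℤ/n ⊗ ℤ/n ≅ ℤ/n`. -/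
theorem nonempty_tensor_const (n : ℕ) :
    Nonempty (EtDual.tensorAb (EtCoh.const X (ZMod n)) (EtCoh.const X (ZMod n)) ≅ EtCoh.const X (ZMod n)) := by
  haveI := isIso_oneTensor n (EtCoh.const X (ZMod n)) (nsmul_id_const n)
  exact ⟨(asIso ((presheafToSheaf _ _).map (oneTensorPre n (EtCoh.const X (ZMod n))))).symm ≪≫
    (asIso ((sheafificationAdjunction X.smallEtaleTopology AddCommGrpCat.{u + 1}).counit.app
      (EtCoh.const X (ZMod n))))⟩

/-- With a primitive root, the restricted Tate twists are constant. -/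
theorem nonempty_restr_tate (n : ℕ) (e : EtCoh.mu X' n ≅ EtCoh.const X' (ZMod n)) (d : ℕ) :
    Nonempty ((EtShriek.restrAlong g).obj (EtDual.tate X n d) ≅ EtCoh.const X' (ZMod n)) := by
  induction d with
  | zero => exact ⟨restrConst g (ZMod n)⟩
  | succ d ih =>
    obtain ⟨a⟩ := ih
    obtain ⟨t⟩ := nonempty_tensor_const (X := X') n
    exact ⟨restrTensor g _ _ ≪≫ tensorIso a (restrMu g n ≪≫ e) ≪≫ t⟩

theorem isZero_of_isEmpty [IsEmpty X] (F : EtCoh.Ab X) : IsZero F :=
  (isZero_iff_ab F).2 fun Ω _ _ ξ => isEmptyElim (ξ default)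

open Polynomial in
/-- An étale surjective cover with a root of the cyclotomic polynomial. -/
theorem exists_cyclotomic_cover (X : Scheme.{u}) (n : ℕ) (hn : 1 ≤ n) (hu : IsUnit (n : Γ(X, ⊤))) :
    ∃ (X' : Scheme.{u}) (g : X' ⟶ X) (_ : AlgebraicGeometry.Etale g) (_ : Surjective g) (ζ : Γ(X', ⊤)),
      IsUnit (n : Γ(X', ⊤)) ∧ Polynomial.aeval ζ (Polynomial.cyclotomic n ℤ) = 0 := by
  let R := Localization.Away ((n : ℕ) : ULift.{u} ℤ)
  have hnR : IsUnit (n : R) := by
    have := IsLocalization.Away.algebraMap_isUnit (S := R) ((n : ℕ) : ULift.{u} ℤ)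
    rwa [map_natCast] at this
  obtain ⟨v, hv⟩ := hnR.exists_left_inv
  obtain ⟨q, hq⟩ := Polynomial.cyclotomic.dvd_X_pow_sub_one n R
  let P : StandardEtalePair R :=
    { f := cyclotomic n R
      monic_f := cyclotomic.monic n R
      g := 1
      cond := ⟨Polynomial.C v * Polynomial.X * q, Polynomial.C v * Polynomial.X * derivative q - q, 0, by
        have h2 := congrArg derivative hq
        rw [derivative_sub, derivative_X_pow, derivative_one, sub_zero, derivative_mul] at h2
        have hX : (Polynomial.X : R[X]) ^ (n - 1) * Polynomial.X = Polynomial.X ^ n := by rw [← pow_succ, Nat.sub_add_cancel hn]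
        have h1 : Polynomial.C v * Polynomial.C (n : R) = 1 := by rw [← C_mul, hv, C_1]
        linear_combination (-(Polynomial.C v) * Polynomial.X) * h2 + hq + (Polynomial.X ^ n) * h1 +
          (Polynomial.C v * Polynomial.C (n : R)) * hX⟩ }
  let φ₀ : ULift.{u} ℤ →+* Γ(X, ⊤) := (Int.castRingHom _).comp ULift.ringEquiv.toRingHom
  let φ : R →+* Γ(X, ⊤) := IsLocalization.Away.lift ((n : ℕ) : ULift.{u} ℤ) (g := φ₀) (by
    rw [map_natCast]; exact hu)
  let C : CommRingCat.{u} := CommRingCat.of P.Ring
  let p : Spec C ⟶ Spec (CommRingCat.of R) := Spec.map (CommRingCat.ofHom (algebraMap R P.Ring))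
  haveI : AlgebraicGeometry.Etale p := by
    rw [HasRingHomProperty.Spec_iff (P := @AlgebraicGeometry.Etale)]
    exact RingHom.etale_algebraMap.mpr inferInstance
  haveI : Surjective p := ⟨fun s => by
    let K := AlgebraicClosure s.asIdeal.ResidueField
    letI : Algebra R K := ((algebraMap s.asIdeal.ResidueField K).comp (algebraMap R _)).toAlgebra
    obtain ⟨x, hx⟩ := IsAlgClosed.exists_root (cyclotomic n K)
      (degree_cyclotomic_pos n K hn).ne'
    let ψ : P.Ring →ₐ[R] K := P.lift x ⟨by
      change aeval x (cyclotomic n R) = 0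
      rw [aeval_def, ← Polynomial.eval_map, map_cyclotomic]; exact hx, by simp [P]⟩
    refine ⟨⟨RingHom.ker ψ.toRingHom, RingHom.ker_isPrime _⟩, ?_⟩
    apply PrimeSpectrum.ext
    change (RingHom.ker ψ.toRingHom).comap (algebraMap R P.Ring) = s.asIdeal
    rw [RingHom.comap_ker, show ψ.toRingHom.comp (algebraMap R P.Ring) = algebraMap R K from ψ.comp_algebraMap,
      show algebraMap R K = (algebraMap s.asIdeal.ResidueField K).comp (algebraMap R _) from rfl,
      ← RingHom.comap_ker, (RingHom.injective_iff_ker_eq_bot _).1 (algebraMap s.asIdeal.ResidueField K).injective]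
    exact Ideal.ker_algebraMap_residueField s.asIdeal⟩
  let b : X ⟶ Spec (CommRingCat.of R) := X.toSpecΓ ≫ Spec.map (CommRingCat.ofHom φ)
  let X' := pullback b p
  let ev : P.Ring →+* Γ(X', ⊤) := ((Scheme.ΓSpecIso C).inv ≫ (pullback.snd b p).appTop).hom
  refine ⟨X', pullback.fst b p, inferInstance, inferInstance, ev P.X, ?_, ?_⟩
  · simpa using hu.map (pullback.fst b p).appTop.hom
  · have h1 : aeval P.X (cyclotomic n R) = 0 := P.hasMap_X.1
    rw [aeval_def, ← Polynomial.eval_map, map_cyclotomic] at h1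
    rw [aeval_def, ← Polynomial.eval_map, map_cyclotomic, ← map_cyclotomic n ev, Polynomial.eval_map_apply (f := ev), h1, map_zero]

/-- Tate twists become constant on an étale cover. -/
theorem exists_cover_tate (X : Scheme.{u}) (n : ℕ) (hu : IsUnit (n : Γ(X, ⊤))) (d : ℕ) :
    ∃ (X' : Scheme.{u}) (g : X' ⟶ X) (_ : AlgebraicGeometry.Etale g) (_ : Surjective g),
      Nonempty ((EtCoh.pull g).obj (EtDual.tate X n d) ≅ (EtCoh.pull g).obj (EtCoh.const X (ZMod n))) := by
  rcases Nat.eq_zero_or_pos n with rfl | hn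
  · haveI : IsEmpty X := by
      constructor
      intro x
      have h : IsUnit (0 : X.presheaf.stalk x) := by
        simpa using hu.map (X.presheaf.germ ⊤ x trivial).hom
      exact zero_ne_one (isUnit_zero_iff.mp h)
    exact ⟨X, 𝟙 X, inferInstance, inferInstance, ⟨(isZero_of_isEmpty _).iso (isZero_of_isEmpty _)⟩⟩
  · obtain ⟨X', g, hg, hs, ζ, hu', hζ⟩ := exists_cyclotomic_cover X n hn hu
    haveI := hg
    obtain ⟨e⟩ := S13507.nonempty_mu_iso_const X' n hn hu' ζ hζ
    obtain ⟨a⟩ := nonempty_restr_tate g n e d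
    exact ⟨X', g, hg, hs, ⟨(pullIsoRestr g).app _ ≪≫ a ≪≫ (restrConst g (ZMod n)).symm ≪≫
      ((pullIsoRestr g).app _).symm⟩⟩

end Groth.Agent.TateShLib
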